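import Cfsg.Agent.OD.Pre
import Cfsg.Agent.H6.Top2
set_option autoImplicit false
set_option maxRecDepth 100000
set_option Elab.async false
set_option linter.all false
namespace CfH6.L7A
open CfH6 MulAction
noncomputable def n0_0 : Net := mkNet (nat_lit 80) [(nat_lit 40, (nat_lit 0xab9c287852aba82877d0)), (nat_lit 20, (nat_lit 0xa6f0a27c2844d7804ce0)), (nat_lit 10, (nat_lit 0x4bb3caf2b8000006c0a0)), (nat_lit 5, (nat_lit 0xa308242d84222884348))] [((nat_lit 0x1484080850108108080), nat_lit 1), ((nat_lit 0x28485080a0090240048), nat_lit 1), ((nat_lit 0x14a4200050148520080), nat_lit 1), ((nat_lit 0x29005000a0000010000), nat_lit 1), ((nat_lit 0x1400080000000008000), nat_lit 1)]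
noncomputable def n0_1 : Net := revNet n0_0
noncomputable def n0_2 : Net := mkNet (nat_lit 80) [(nat_lit 40, (nat_lit 0xae37fc3df8ae37fc39e8)), (nat_lit 20, (nat_lit 0x6e968ee8200566805ae8)), (nat_lit 10, (nat_lit 0x1425ac7d0eba2a8541d4)), (nat_lit 5, (nat_lit 0x140285bbfa1e00042080))] [((nat_lit 0x20001214202840000000), nat_lit 1), ((nat_lit 0x100025294a5200000840), nat_lit 1), ((nat_lit 0x20005014852800001400), nat_lit 1), ((nat_lit 0x40000020485000002800), nat_lit 1), ((nat_lit 0x200000000000), nat_lit 1)]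
noncomputable def n0_3 : Net := revNet n0_2
noncomputable def n0_4 : Net := mkNet (nat_lit 80) [(nat_lit 40, (nat_lit 0x676c602434676c602148)), (nat_lit 20, (nat_lit 0x4075c401d8552b855380)), (nat_lit 10, (nat_lit 0x4498240d0071bd64d134)), (nat_lit 5, (nat_lit 0x3980031c842e484800))] [((nat_lit 0x21000014252802028000), nat_lit 1), ((nat_lit 0x28400080a5014a52800), nat_lit 1), ((nat_lit 0x148001000280a401000), nat_lit 1), ((nat_lit 0x100000000014a02000), nat_lit 1), ((nat_lit 0xa100000), nat_lit 1)]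
noncomputable def n0_5 : Net := revNet n0_4
noncomputable def n0_6 : Net := mkNet (nat_lit 80) [(nat_lit 40, (nat_lit 0x8fb19c13ec8f909c1644)), (nat_lit 20, (nat_lit 0x8f9280e0c86268e627b8)), (nat_lit 10, (nat_lit 0x88822c6020baae264990)), (nat_lit 5, (nat_lit 0x21140f7af4b531842000))] [((nat_lit 0x8081004a108004010a4), nat_lit 1), ((nat_lit 0x50000129420290000948), nat_lit 1), ((nat_lit 0x28000210a40140001084), nat_lit 1), ((nat_lit 0x40000009400000000040), nat_lit 1), ((nat_lit 0x4800000000020), nat_lit 1)]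
noncomputable def n0_7 : Net := revNet n0_6
noncomputable def n0_8 : Net := mkNet (nat_lit 80) [(nat_lit 40, (nat_lit 0x6d2bea4a906d33ea47a8)), (nat_lit 20, (nat_lit 0xe53aee52a412b1c10a6c)), (nat_lit 10, (nat_lit 0x8c22055cc00080260180)), (nat_lit 5, (nat_lit 0x84084c72e20001000040))] [((nat_lit 0x28024010250148021421), nat_lit 1), ((nat_lit 0x4004850908009481094a), nat_lit 1), ((nat_lit 0x200a420404014a401484), nat_lit 1), ((nat_lit 0x1010040002000020014a), nat_lit 1), ((nat_lit 0x8000000010000000000), nat_lit 1)]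
noncomputable def n0_9 : Net := revNet n0_8
noncomputable def n0_10 : Net := mkNet (nat_lit 80) [(nat_lit 40, (nat_lit 0xb30e00fe00b21e006c2)), (nat_lit 20, (nat_lit 0xb30c0b2a8529ba52e2a)), (nat_lit 10, (nat_lit 0xbaac04619078720)), (nat_lit 5, (nat_lit 0x10011218e70d473b1c))] [((nat_lit 0x94250000008005), nat_lit 1), ((nat_lit 0x250142409425284a), nat_lit 1), ((nat_lit 0x4280850148420401), nat_lit 1), ((nat_lit 0x501400094850000), nat_lit 1), ((nat_lit 0x200002008000), nat_lit 1)]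
noncomputable def n0_11 : Net := revNet n0_10
noncomputable def n1_4 : Net := mkNet (nat_lit 80) [(nat_lit 40, (nat_lit 0x12208065801220806580)), (nat_lit 20, (nat_lit 0x1228012280c0308c0308)), (nat_lit 10, (nat_lit 0x8020012008e03802c0b0)), (nat_lit 5, (nat_lit 0x8410800294a51b2f2880))] [((nat_lit 0x80004a42808129480), nat_lit 1), ((nat_lit 0x20000214a5294a42840), nat_lit 1), ((nat_lit 0x852142421480), nat_lit 1), ((nat_lit 0x14a5280000000), nat_lit 1), ((nat_lit 0x240800000000), nat_lit 1)]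
noncomputable def n2_0 : Net := mkNet (nat_lit 64) [(nat_lit 32, (nat_lit 0xb8f7addab8f1cdce)), (nat_lit 16, (nat_lit 0x55d155d47d0a390e)), (nat_lit 8, (nat_lit 0xf0b87868232adc5a)), (nat_lit 4, (nat_lit 0xc0c64644cc20368c)), (nat_lit 2, (nat_lit 0xca60028ae000c002))] [((nat_lit 0x4110144111005404), nat_lit 1)]
noncomputable def n2_1 : Net := mkNet (nat_lit 64) [(nat_lit 32, (nat_lit 0x86511e008d63ba)), (nat_lit 16, (nat_lit 0x9c0a9c02a01aaf08)), (nat_lit 8, (nat_lit 0x1898adcc5046ac78)), (nat_lit 4, (nat_lit 0x8090a074e8749c20)), (nat_lit 2, (nat_lit 0xa4060a2e0cc8a2))] [((nat_lit 0x410410444055114), nat_lit 1)]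
noncomputable def n2_2 : Net := mkNet (nat_lit 64) [(nat_lit 32, (nat_lit 0x2000bc202000bc20)), (nat_lit 16, (nat_lit 0x24412440b09cb01c)), (nat_lit 8, (nat_lit 0x2828e2e278786868)), (nat_lit 4, (nat_lit 0x601a200088a044)), (nat_lit 2, (nat_lit 0x8240cc0acc40))] [((nat_lit 0x400110455540004), nat_lit 1)]
noncomputable def n3_0 : Net := mkNet (nat_lit 16) [(nat_lit 8, (nat_lit 0x7000)), (nat_lit 4, (nat_lit 0xf880)), (nat_lit 2, (nat_lit 0x4080))] [((nat_lit 0x4050), nat_lit 1)]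
noncomputable def n3_1 : Net := mkNet (nat_lit 16) [(nat_lit 8, (nat_lit 0x2424)), (nat_lit 4, (nat_lit 0xdc44)), (nat_lit 2, (nat_lit 0x8ac0))] [((nat_lit 0x404), nat_lit 1)]
noncomputable def nets0 : List Net := [n0_0, n0_1, n0_2, n0_3, n0_4, n0_5, n0_6, n0_7, n0_8, n0_9, n0_10, n0_11]
noncomputable def nets1 : List Net := [n0_0, n0_2, n0_4, n0_6, n1_4]
def ws1 : List (List ℕ) := [[0],
  [2],
  [4],
  [6],
  [0, 9, 0, 0, 9, 0]]
noncomputable def nets2 : List Net := [n2_0, n2_1, n2_2]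
def ws2 : List (List ℕ) := [[3, 3, 1, 2, 1, 2, 3],
  [2],
  [4]]
noncomputable def nets3 : List Net := [n3_0, n3_1]
def ws3 : List (List ℕ) := [[2, 1, 0, 2, 2, 1, 0],
  [0, 0, 0, 2, 2, 2]]
def sig : List (List ℕ) := [[0],
  [1],
  [2],
  [3],
  [4],
  [5],
  [6],
  [7],
  [8],
  [9],
  [10],
  [11]]
def eqs0 : List (List ℕ × List ℕ) := [([0, 1], []),
  ([2, 3], []),
  ([4, 5], []),
  ([6, 7], []),
  ([8, 9], []),
  ([10, 11], []),
  ([0, 0, 0, 0], [1, 1, 1]),
  ([2, 2, 2, 2], [3, 3, 3]),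
  ([4, 4, 4, 4], [5, 5, 5]),
  ([6, 6, 6, 6], [7, 7, 7]),
  ([8, 8, 8, 8], [9, 9, 9]),
  ([10, 10, 10, 10], [11, 11, 11]),
  ([4, 4, 4, 7, 7], [6, 6, 4, 6, 4]),
  ([4, 6, 5], [6, 5, 7]),
  ([0, 7, 3], [3, 7]),
  ([0, 4, 1], [4, 2]),
  ([2, 4], [4, 2]),
  ([0, 2], [2, 0]),
  ([0, 0, 10, 10, 4, 10, 2], [5, 1, 9, 1, 5, 11]),
  ([4, 10, 5], [10, 8]),
  ([0, 10, 1], [7, 10]),
  ([8, 10], [10, 8]),
  ([6, 10], [10, 6]),
  ([4, 8], [8, 4])]
def eqs : List (List ℕ × List ℕ) := eqs0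
def lU : List (ℕ × ℕ) := [(0, 15), (16, 36), (64, 6)]
noncomputable def U : ℕ := ivls lU
def l1 : List (ℕ × ℕ) := [(1, 14), (16, 36), (64, 6)]
noncomputable def S1 : ℕ := ivls l1
def w1 : List ℕ := [8]
noncomputable def J : List (List ℕ × ℕ × ℕ) := [(w1, 1, S1)]
def lBig : List (ℕ × ℕ) := [(1, 14), (16, 36), (64, 6)]
noncomputable def J1 : List (List ℕ × ℕ × ℕ) := [([0], 1, S1)]
def ex : List (List ℕ) := [[10, 0, 4]]
def bs' : List ℕ := [0, 1, 2, 3]
end CfH6.L7A
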